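import Groth.Agent.Lib.FinPres16.HomSheaf
import Groth.Agent.Lib.ModFlat16.LocFT

/-! Sections of the internal hom as morphisms over a slice. -/

set_option autoImplicit false
set_option linter.style.haveILetI false
set_option linter.unusedSectionVars false
set_option backward.isDefEq.respectTransparency false
set_option backward.isDefEq.respectTransparency.types false

universe u

open CategoryTheory CategoryTheory.Limits Opposite

noncomputable section

namespace Groth.Agent.PullTen16

open ModFlat16 FinPres16

variable {C : Type u} [SmallCategory C] {J : GrothendieckTopology C} {O : Sheaf J CommRingCat.{u}}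
  {M N : ModSite.Mod O} [ModSite.HasSheafHom M]

/-- The morphism over the slice given by a section of the internal hom. -/
def homOf {V : C} (z : ModSite.sect ((ModSite.sheafHom M).obj N) V) :
    (ModSite.restr O V).obj M ⟶ (ModSite.restr O V).obj N where
  val := PresheafOfModules.homMk
    { app := fun A => AddCommGrpCat.ofHom (AddMonoidHom.mk'
        (fun s : ModSite.sect M A.unop.left =>
          hval (M := M) (N := N) (V := A.unop.left) (smap ((ModSite.sheafHom M).obj N) A.unop.hom z) s)
        (fun s s' => hval_add (M := M) (N := N) (V := A.unop.left) _ s s'))
      naturality := fun A B a => by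
        ext s
        show hval (M := M) (N := N) (V := B.unop.left) (smap ((ModSite.sheafHom M).obj N) B.unop.hom z)
            (smap M a.unop.left s) =
          smap N a.unop.left (hval (M := M) (N := N) (V := A.unop.left) (smap ((ModSite.sheafHom M).obj N) A.unop.hom z) s)
        rw [← hval_smap, ← smap_comp, Over.w] }
    fun A r s => hval_smul (M := M) (N := N) (V := A.unop.left) _ r s

theorem onSlice_homOf {V : C} (z : ModSite.sect ((ModSite.sheafHom M).obj N) V) {W : C} (u : W ⟶ V)
    (s : ModSite.sect M W) : onSlice (homOf z) u s = hval (smap ((ModSite.sheafHom M).obj N) u z) s := rfl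

end Groth.Agent.PullTen16
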