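import Groth.Agent.Lib.PullTen16.PushHom

/-! Inverse images commute with tensor products. -/

set_option autoImplicit false
set_option linter.style.haveILetI false
set_option linter.unusedSectionVars false
set_option backward.isDefEq.respectTransparency false
set_option backward.isDefEq.respectTransparency.types false

universe u

open CategoryTheory CategoryTheory.Limits Opposite

noncomputable section

namespace Groth.Agent.PullTen16

variable {C D : Type u} [SmallCategory C] [SmallCategory D] {J : GrothendieckTopology C}
  {K : GrothendieckTopology D} {O_C : Sheaf J CommRingCat.{u}} {O_D : Sheaf K CommRingCat.{u}}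
  (f : ModSite.RMor O_C O_D) (M N : ModSite.Mod O_D)
  [ModSite.HasSheafHom (f.pull.obj N)] [ModSite.HasSheafHom N]

/-- Maps out of the two tensor products. -/
def homTensorEquiv (P : ModSite.Mod O_C) :
    (((ModSite.tensorBi O_C).flip.obj (f.pull.obj N)).obj (f.pull.obj M) ⟶ P) ≃
      (f.pull.obj (((ModSite.tensorBi O_D).flip.obj N).obj M) ⟶ P) :=
  (((ModSite.sheafHomAdj (f.pull.obj N)).homEquiv _ P).trans (f.adj.homEquiv M _)).trans
    (((pushHomIso f P N).homToEquiv).trans
      (((ModSite.sheafHomAdj N).homEquiv M (f.push.obj P)).symm.trans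
        (f.adj.homEquiv (((ModSite.tensorBi O_D).flip.obj N).obj M) P).symm))

theorem homTensorEquiv_comp {P P' : ModSite.Mod O_C}
    (h : ((ModSite.tensorBi O_C).flip.obj (f.pull.obj N)).obj (f.pull.obj M) ⟶ P) (g : P ⟶ P') :
    homTensorEquiv f M N P' (h ≫ g) = homTensorEquiv f M N P h ≫ g := by
  have e1 : (f.adj.homEquiv M _) ((ModSite.sheafHomAdj (f.pull.obj N)).homEquiv _ P' (h ≫ g)) ≫
      (pushHomIso f P' N).hom =
      ((f.adj.homEquiv M _) ((ModSite.sheafHomAdj (f.pull.obj N)).homEquiv _ P h) ≫ (pushHomIso f P N).hom) ≫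
        (ModSite.sheafHom N).map (f.push.map g) := by
    rw [Adjunction.homEquiv_naturality_right, Adjunction.homEquiv_naturality_right, Category.assoc, Category.assoc]
    exact congrArg _ (theta_naturality f P N g)
  show (f.adj.homEquiv _ _).symm (((ModSite.sheafHomAdj N).homEquiv M (f.push.obj P')).symm
      ((f.adj.homEquiv M _) ((ModSite.sheafHomAdj (f.pull.obj N)).homEquiv _ P' (h ≫ g)) ≫ (pushHomIso f P' N).hom)) = _
  rw [e1, Adjunction.homEquiv_naturality_right_symm, Adjunction.homEquiv_naturality_right_symm]
  rfl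

/-- Inverse image of a tensor product. -/
def pullTensorIso : ((ModSite.tensorBi O_C).flip.obj (f.pull.obj N)).obj (f.pull.obj M) ≅
    f.pull.obj (((ModSite.tensorBi O_D).flip.obj N).obj M) :=
  Coyoneda.ext _ _ (fun {P} h => homTensorEquiv f M N P h) (fun {P} h => (homTensorEquiv f M N P).symm h)
    (fun h => Equiv.symm_apply_apply _ h) (fun h => Equiv.apply_symm_apply _ h)
    (fun h g => (homTensorEquiv f M N _).injective (by
      rw [Equiv.apply_symm_apply, homTensorEquiv_comp, Equiv.apply_symm_apply]))

end Groth.Agent.PullTen16
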