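import Groth.Agent.Lib.PullTen16.HomOf
import Groth.Agent.Lib.ModFlat16.PullRestr

/-! Direct images of internal homs out of inverse images. -/

set_option autoImplicit false
set_option linter.style.haveILetI false
set_option linter.unusedSectionVars false
set_option backward.isDefEq.respectTransparency false
set_option backward.isDefEq.respectTransparency.types false

universe u

open CategoryTheory CategoryTheory.Limits Opposite MonoidalCategory

noncomputable section

namespace Groth.Agent.PullTen16

open ModFlat16 FinPres16 Groth.Agent.KFlat.Site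

variable {C D : Type u} [SmallCategory C] [SmallCategory D] {J : GrothendieckTopology C}
  {K : GrothendieckTopology D} {O_C : Sheaf J CommRingCat.{u}} {O_D : Sheaf K CommRingCat.{u}}
  (f : ModSite.RMor O_C O_D) (P : ModSite.Mod O_C) (N : ModSite.Mod O_D)
  [ModSite.HasSheafHom (f.pull.obj N)] [ModSite.HasSheafHom N]

/-- The unit on sections. -/
def et {V : D} (n : ModSite.sect N V) : ModSite.sect (f.pull.obj N) (f.fn.obj V) :=
  (f.adj.unit.app N).val.app (op V) n

theorem et_add {V : D} (n n' : ModSite.sect N V) : et f N (n + n') = et f N n + et f N n' :=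
  map_add ((f.adj.unit.app N).val.app (op V)).hom n n'

theorem et_smul {V : D} (a : O_D.obj.obj (op V)) (n : ModSite.sect N V) :
    et f N (a • n) = shp f V a • et f N n :=
  ((f.adj.unit.app N).val.app (op V)).hom.map_smul a n

theorem et_smap {V V' : D} (g : V' ⟶ V) (n : ModSite.sect N V) :
    et f N (smap N g n) = smap (f.pull.obj N) (f.fn.map g) (et f N n) :=
  PresheafOfModules.naturality_apply (f.adj.unit.app N).val g.op n

theorem presIso_et {V : D} (n : ModSite.sect N V) :
    (pullPresIso f N).hom.val.app (op (f.fn.obj V)) (et f N n) = cls f N (𝟙 _) n :=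
  congrArg (fun q : N ⟶ f.push.obj ((ModSite.shPre O_C).obj (preQ f N)) => q.val.app (op V) n)
    ((f.adj.homEquiv_unit _ _ _).symm.trans (Equiv.apply_symm_apply _ _))

theorem presIso_inv_cls {V : D} (n : ModSite.sect N V) :
    (pullPresIso f N).inv.val.app (op (f.fn.obj V)) (cls f N (𝟙 _) n) = et f N n :=
  congrArg (fun q : N ⟶ f.push.obj (f.pull.obj N) => q.val.app (op V) n) (toPush_descSh (f.adj.unit.app N))

/-- The internal hom out of the inverse image. -/
abbrev HC : ModSite.Mod O_C := (ModSite.sheafHom (f.pull.obj N)).obj P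

/-- The internal hom into the direct image. -/
abbrev HD : ModSite.Mod O_D := (ModSite.sheafHom N).obj (f.push.obj P)

/-- The value of a section of the internal hom out of the inverse image. -/
abbrev hvC {V : D} (z : ModSite.sect (HC f P N) (f.fn.obj V)) (n : ModSite.sect N V) :
    ModSite.sect P (f.fn.obj V) :=
  hval (M := f.pull.obj N) (N := P) (V := f.fn.obj V) z (et f N n)

/-- Evaluation, as a pairing. -/
def pairH : Pt (f.push.obj (HC f P N)) N ⟶ (ModSite.toPre O_D).obj (f.push.obj P) where
  app V := ModuleCat.MonoidalCategory.tensorLift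
    (fun z n => hvC f P N (V := V.unop) z n)
    (fun z z' n => hval_add_left (M := f.pull.obj N) (N := P) (V := f.fn.obj V.unop) z z' _)
    (fun a z n => hval_smul_left (M := f.pull.obj N) (N := P) (V := f.fn.obj V.unop) z (shp f V.unop a) _)
    (fun z n n' => by
      show hvC f P N (V := V.unop) z (n + n') = _
      rw [hvC, et_add]
      exact hval_add (M := f.pull.obj N) (N := P) (V := f.fn.obj V.unop) z _ _)
    (fun a z n => by
      show hvC f P N (V := V.unop) z (a • n) = _
      rw [hvC, et_smul]
      exact hval_smul (M := f.pull.obj N) (N := P) (V := f.fn.obj V.unop) z _ _)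
  naturality {V V'} g := ModuleCat.MonoidalCategory.tensor_ext fun z n => by
    show hvC f P N (V := V'.unop) (smap (HC f P N) (f.fn.map g.unop) z) (smap N g.unop n) =
      smap P (f.fn.map g.unop) (hvC f P N (V := V.unop) z n)
    rw [hvC, et_smap]
    exact hval_smap (M := f.pull.obj N) (N := P) (f.fn.map g.unop) z (et f N n)

/-- The comparison map. -/
def theta : f.push.obj (HC f P N) ⟶ HD f P N :=
  (ModSite.sheafHomAdj N).homEquiv _ _ (((adj O_D).homEquiv _ _).symm (pairH f P N))

theorem hval_theta {V : D} (z : ModSite.sect (f.push.obj (HC f P N)) V) (n : ModSite.sect N V) :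
    hval ((theta f P N).val.app (op V) z) n =
      hval (show ModSite.sect (HC f P N) (f.fn.obj V) from z) (et f N n) := by
  refine (hval_homEquiv _ z n).trans ?_
  refine Eq.trans ?_ (show (pairH f P N).app (op V) (tm z n) = hvC f P N z n from rfl)
  exact congrArg (fun q : Pt (f.push.obj (HC f P N)) N ⟶ (ModSite.toPre O_D).obj (f.push.obj P) =>
    q.app (op V) (tm z n))
    (((adj O_D).homEquiv_unit (f := ((adj O_D).homEquiv _ _).symm (pairH f P N))).symm.trans
      (Equiv.apply_symm_apply _ _))

theorem hval_smap_theta {V W : D} (g : W ⟶ V) (z : ModSite.sect (f.push.obj (HC f P N)) V)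
    (n : ModSite.sect N W) :
    hval (smap (HD f P N) g ((theta f P N).val.app (op V) z)) n =
      hval (smap (HC f P N) (f.fn.map g) (show ModSite.sect (HC f P N) (f.fn.obj V) from z)) (et f N n) := by
  rw [← app_smap]
  exact hval_theta f P N _ n

theorem theta_bijective (V : D) : Function.Bijective ((theta f P N).val.app (op V)) := by
  refine ⟨fun z z' h => ?_, fun w => ?_⟩
  · let zz : ModSite.sect (HC f P N) (f.fn.obj V) := z
    let zz' : ModSite.sect (HC f P N) (f.fn.obj V) := z'
    suffices hh : homOf zz = homOf zz' by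
      exact hval_ext zz zz' fun u s => congrArg (fun q => onSlice q u s) hh
    rw [← cancel_epi ((ModSite.restr O_C (f.fn.obj V)).map (pullPresIso f N).inv)]
    apply (bijective_toPushV f V N _).1
    refine SheafOfModules.hom_ext (PresheafOfModules.hom_ext fun Y => ModuleCat.hom_ext (LinearMap.ext fun n => ?_))
    show hval (smap (HC f P N) (f.fn.map Y.unop.hom) zz)
        ((pullPresIso f N).inv.val.app (op (f.fn.obj Y.unop.left)) (cls f N (𝟙 _) n)) =
      hval (smap (HC f P N) (f.fn.map Y.unop.hom) zz')
        ((pullPresIso f N).inv.val.app (op (f.fn.obj Y.unop.left)) (cls f N (𝟙 _) n))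
    rw [presIso_inv_cls, ← hval_smap_theta, ← hval_smap_theta, h]
  · obtain ⟨α, hα⟩ := (bijective_toPushV f V N ((ModSite.restr O_C (f.fn.obj V)).obj P)).2
      (homOf (M := N) (N := f.push.obj P) w)
    obtain ⟨z, hz⟩ := exists_hval ((ModSite.restr O_C (f.fn.obj V)).map (pullPresIso f N).hom ≫ α)
    refine ⟨z, hval_ext _ _ fun {W} g n => ?_⟩
    rw [hval_smap_theta]
    refine (hz (f.fn.map g) (et f N n)).trans ?_
    show α.val.app (op (Over.mk (f.fn.map g)))
      ((pullPresIso f N).hom.val.app (op (f.fn.obj W)) (et f N n)) = _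
    rw [presIso_et]
    exact congrArg (fun q : (ModSite.restr O_D V).obj N ⟶ (pushV f V).obj _ => q.val.app (op (Over.mk g)) n) hα

theorem isIso_theta : IsIso (theta f P N) := by
  haveI : ∀ V, IsIso ((theta f P N).val.app V) := fun V =>
    (ConcreteCategory.isIso_iff_bijective _).2 (theta_bijective f P N V.unop)
  haveI : IsIso ((SheafOfModules.forget (ModSite.ringSh O_D)).map (theta f P N)) :=
    (PresheafOfModules.isoMk (fun V => asIso ((theta f P N).val.app V))
      (fun _ _ g => ((theta f P N).val.naturality g))).isIso_hom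
  exact isIso_of_reflects_iso _ (SheafOfModules.forget (ModSite.ringSh O_D))

/-- Direct image of internal hom out of an inverse image. -/
def pushHomIso : f.push.obj (HC f P N) ≅ HD f P N :=
  @asIso _ _ _ _ (theta f P N) (isIso_theta f P N)

theorem theta_naturality {P' : ModSite.Mod O_C} (g : P ⟶ P') :
    f.push.map ((ModSite.sheafHom (f.pull.obj N)).map g) ≫ theta f P' N =
      theta f P N ≫ (ModSite.sheafHom N).map (f.push.map g) := by
  refine SheafOfModules.hom_ext (PresheafOfModules.hom_ext fun V => ModuleCat.hom_ext (LinearMap.ext fun z => ?_))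
  obtain ⟨V⟩ := V
  refine hval_ext _ _ fun {W} u n => ?_
  show hval (smap (HD f P' N) u ((theta f P' N).val.app (op V)
      (((ModSite.sheafHom (f.pull.obj N)).map g).val.app (op (f.fn.obj V)) z))) n =
    hval (smap (HD f P' N) u (((ModSite.sheafHom N).map (f.push.map g)).val.app (op V)
      ((theta f P N).val.app (op V) z))) n
  rw [hval_smap_theta, ← app_smap ((ModSite.sheafHom N).map (f.push.map g)), hval_map, hval_smap_theta]
  refine (congrArg (fun q => hval q (et f N n))
    (app_smap ((ModSite.sheafHom (f.pull.obj N)).map g) (f.fn.map u) _).symm).trans ?_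
  exact hval_map g _ _

end Groth.Agent.PullTen16
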